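import Cfsg.Agent.Lib.JT.St
import Cfsg.Agent.Lib.JT.L2S
import Cfsg.Agent.Lib.BSW.GenInt
import Cfsg.Agent.Lib.Block.Main

/-! The 2-local data of `L₂(q)`, `q ≡ ±3 (mod 8)`. -/

set_option autoImplicit false

namespace Cfsg.Lib.JT
open Subgroup Cfsg.Lib Cfsg.Lib.BSW

/-- one class of involutions, with dihedral centralizer of order `2 m`, `m` twice an odd number -/
structure LD {K : Type*} [Group K] [Fintype K] (w : K) (m : ℕ) : Prop where
  ord : orderOf w = 2
  one : ∀ x : K, orderOf x = 2 → IsConj w x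
  sec : ∀ x : K, Even (orderOf x) → PRel 2 w x
  npc : HasNormalPComplement 2 (centralizer ({w} : Set K))
  idx : (pResidual 2 (centralizer ({w} : Set K))).index = 4
  card : Nat.card (centralizer ({w} : Set K)) = 2 * m
  odd : ¬ 2 ∣ (centralizer ({w} : Set K)).index
  pairs : ∀ x : K, Even (orderOf x) → invPairs x = m

theorem ld_of_std {K : Type*} [Group K] [Fintype K] (h : GW.IsL2 K) {q : ℕ} {e : ℤ} {R : Subgroup K} {w : K}
    {St : K → ℂ} (hS : StD q e R w St) : ∃ m : ℕ, (2 * m : ℤ) = q - e ∧ LD w m := by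
  sorry

end Cfsg.Lib.JT
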