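import Cfsg.Agent.Lib.JT.Chr2
import Cfsg.Agent.Lib.JT.LD

/-! The characters of the principal 2-block that are nonzero at `t`. -/

set_option autoImplicit false

namespace Cfsg.Lib.JT
open Subgroup Cfsg.Lib Cfsg.Lib.BSW

variable {G : Type*} [Group G]

theorem chr3 [Finite G] {t : G} {L : Subgroup G} (ht : orderOf t = 2)
    (hc : ∀ x : G, orderOf x = 2 → IsConj t x) (hab : Wal.Ab2 G) (LH : L ≤ centralizer {t}) (tL : t ∉ L)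
    (hL : ∀ x ∈ centralizer ({t} : Set G), x ∈ L ∨ t * x ∈ L) (hL2 : GW.IsL2 L)
    {q : ℕ} {e : ℤ} {R : Subgroup L} {w : L} {St : L → ℂ} (hS : StD q e R w St)
    (IV : ∀ g : G, ∀ y ∈ R.map L.subtype, y ≠ 1 → g⁻¹ * y * g ∈ R.map L.subtype → g ∈ centralizer ({t} : Set G))
    {Q k g : ℤ} (hQ : Q = e * q) (hk : Q + 1 = 2 * k) (hg : g = (centralizer ({t} : Set G)).index) :
    ∃ a A B C1 C2 : ℤ, a ≠ 0 ∧ a ≠ 1 ∧ A ≠ 0 ∧ B ≠ 0 ∧ C1 ≠ 0 ∧ C2 ≠ 0 ∧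
      g * (a - Q) ^ 2 = Q * (Q + 1) ^ 2 * (Q - 1) * a * (a - 1) ∧ A + B = a - 1 ∧ C1 + C2 = a - A ∧
      (((g : ℚ) * (1 - Q ^ 2 / a + Q ^ 2 / A + 1 / B) = Q * (Q + 1) ^ 2 * (Q - 1) ∧
        (g : ℚ) * (-Q ^ 2 / a + Q ^ 2 / A + k ^ 2 / C1 + k ^ 2 / C2) = -4 * k * Q * (Q + k)) ∨
      ((g : ℚ) * (1 - Q ^ 2 / a + (1 - k) ^ 2 * (1 / A + 1 / B)) = Q * (Q + 1) ^ 2 * (Q - 1) ∧
        (g : ℚ) * (-Q ^ 2 / a + (1 - k) ^ 2 / A + k ^ 2 / C1 + 4 * k ^ 2 / C2) = -4 * k * Q * (Q + k) ∧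
        C1 ∣ g * k ∧ C2 ∣ 2 * g * k)) := by
  sorry

end Cfsg.Lib.JT
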