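import Cfsg.Agent.Lib.JT.Chr
import Cfsg.Agent.Lib.JT.LD
import Cfsg.Agent.Lib.Core.B0
import Cfsg.Agent.Lib.BSW.Sect

/-! The principal 2-block of `L₂(q)`, `q ≡ ±3 (mod 8)`. -/

set_option autoImplicit false

namespace Cfsg.Lib.JT
open Subgroup Cfsg.Lib Cfsg.Lib.BSW ComplexConjugate

variable {G : Type*} [Group G] [Fintype G]

theorem ca_add (a b : G → ℂ) : pb0 2 (a + b) = pb0 2 a + pb0 2 b := blockProj_add _ _ _
theorem ca_sub (a b : G → ℂ) : pb0 2 (a - b) = pb0 2 a - pb0 2 b := blockProj_sub _ _ _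
theorem ca_smul (c : ℂ) (a : G → ℂ) : pb0 2 (c • a) = c • pb0 2 a := blockProj_smul _ _ _
theorem ca_one : pb0 2 (1 : G → ℂ) = 1 := pb0_irr_of_inB0 isIrrCharacter_one inB0_one

theorem ca_orth {X Y Z : genChars G} (hX : ip X X = 1) (hY : ip Y Y = 1) (h : ip X Y = 0) (hZ : ip Z Z = 1)
    (e : ip Z X + ip Z Y = 0) : ip Z X = 0 ∧ ip Z Y = 0 := by
  have := bessel_two Z X Y hX hY h
  rw [hZ, eq_neg_of_add_eq_zero_left e] at this
  have : ip Z Y = 0 := by nlinarith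
  omega

theorem ca_sign {X : genChars G} (hX : ip X X = 1) :
    ∃ (χ : G → ℂ) (ε : ℤ), IsIrrCharacter G χ ∧ (ε : ℂ) * ε = 1 ∧ (X : G → ℂ) = (ε : ℂ) • χ := by
  obtain ⟨χ, h1, h2 | h2⟩ := exists_irr_of_ip_eq_one hX
  · exact ⟨χ, 1, h1, by simp, by simp [h2]⟩
  · exact ⟨χ, -1, h1, by simp, by simp [h2]⟩

theorem ca_b0 {X : genChars G} (hX : ip X X = 1) (h : pb0 2 (X : G → ℂ) = X) :
    ∃ (χ : G → ℂ) (ε : ℤ), IsIrrCharacter G χ ∧ InB0 2 χ ∧ (ε : ℂ) * ε = 1 ∧ (X : G → ℂ) = (ε : ℂ) • χ := by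
  obtain ⟨χ, ε, h1, h2, h3⟩ := ca_sign hX
  refine ⟨χ, ε, h1, by_contra fun hb => gcDeg_ne_zero hX ?_, h2, h3⟩
  have := gcDeg_spec X
  rw [← h, h3, ca_smul, pb0_irr_of_not_inB0 h1 hb, smul_zero, Pi.zero_apply] at this
  exact_mod_cast this.symm

theorem ca_sw {a b : genChars G} {n : ℤ} (h : ip a b = n) : ip b a = n := (ip_comm b a).trans h

theorem ca_ne {X : genChars G} (hX : ip X X = 1) (h : pb0 2 (X : G → ℂ) = X) {u : G}
    (hu : ¬ 2 ∣ (centralizer ({u} : Set G)).index) : (X : G → ℂ) u ≠ 0 := by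
  obtain ⟨χ, ε, h1, h2, h3, h4⟩ := ca_b0 hX h
  rw [h4]
  exact mul_ne_zero (left_ne_zero_of_mul_eq_one h3) (h2.ne_zero_of_index h1.isClassFunction hu)

theorem ca_of_ip {D X : genChars G} (hD : pb0 2 (D : G → ℂ) = D) (hX : ip X X = 1) (h : ip D X ≠ 0) :
    pb0 2 (X : G → ℂ) = X := by
  obtain ⟨χ, ε, h1, h2, h3⟩ := ca_sign hX
  rw [h3, ca_smul, pb0_irr_of_inB0 h1 (inB0_of_ip_ne_zero hD h1 fun e => h ?_)]
  rw [ip_eq_iff, h3, classInner_smul_right, e]; simp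

/-- the projection to the principal block from a column without multiplicities -/
theorem ca_span {ι : Type*} [Fintype ι] [DecidableEq ι] (Y : ι → genChars G)
    (hY : ∀ i j, ip (Y i) (Y j) = if i = j then 1 else 0) {w : G} (hw : ¬ 2 ∣ (centralizer ({w} : Set G)).index)
    (hΘ : pb0 2 (clsFun w) = ∑ i, (Y i : G → ℂ)) {φ : G → ℂ} (hφ : IsClassFunction G φ) :
    pb0 2 φ = ∑ i, classInner φ (Y i) • (Y i : G → ℂ) := by
  classical
  refine sub_eq_zero.1 (classFun_eq_zero_of_inner ((isClassFunction_pb0 hφ).sub fun x g => ?_) fun χ hχ => ?_)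
  · simp only [Finset.sum_apply, Pi.smul_apply, gc_class (Y _) x g]
  rw [classInner_sub_left, classInner_pb0 hφ hχ, classInner_sum_left]
  simp only [classInner_smul_left]
  have k := classInner_pb0 (p := 2) (isClassFunction_clsFun w) hχ
  rw [hΘ, classInner_sum_left, classInner_clsFun w hχ.isClassFunction] at k
  by_cases h : ∃ i, classInner (Y i : G → ℂ) χ ≠ 0
  · obtain ⟨i, hi⟩ := h
    obtain ⟨ψ, ε, h1, h2, h3⟩ := ca_sign ((hY i i).trans (if_pos rfl))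
    obtain rfl : ψ = χ := by_contra fun e => hi (by rw [h3, classInner_smul_left, h1.inner_of_ne hχ e, mul_zero])
    have h4 : ψ = (ε : ℂ) • (Y i : G → ℂ) := by rw [h3, smul_smul, h2, one_smul]
    have h5 : ∀ j, classInner (Y j : G → ℂ) ψ = if j = i then (ε : ℂ) else 0 := fun j => by
      rw [h4, classInner_smul_right, ← ip_spec, hY]; split_ifs <;> simp
    simp only [h5, Finset.sum_ite_eq', Finset.mem_univ, if_true, mul_ite, mul_zero] at k ⊢
    rw [if_pos (by_contra fun hb => left_ne_zero_of_mul_eq_one h2 (k.trans (if_neg hb)))]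
    nth_rw 1 [h4]
    rw [classInner_smul_right]; simp [mul_comm]
  · push Not at h
    simp only [h, Finset.sum_const_zero, mul_zero, sub_zero] at k ⊢
    refine if_neg fun hb => hb.ne_zero_of_index hχ.isClassFunction hw ?_
    rw [if_pos hb] at k
    simpa using k.symm

theorem ca_count {t : G} (ht : orderOf t = 2) (hc : ∀ x : G, orderOf x = 2 → IsConj t x) :
    (Finset.univ.filter fun u : G => orderOf u = 2).card = (centralizer ({t} : Set G)).index := by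
  classical
  rw [← card_filter_isConj]
  congr 1
  ext u
  simp only [Finset.mem_filter, Finset.mem_univ, true_and]
  exact ⟨fun hu => (hc u hu).symm, fun hu => by
    obtain ⟨c, rfl⟩ := isConj_iff.1 hu.symm
    rw [orderOf_conj', ht]⟩

theorem ca_pairs {t : G} (ht : orderOf t = 2) (hc : ∀ x : G, orderOf x = 2 → IsConj t x) {X : genChars G}
    (hX : ip X X = 1) {d v : ℤ} (hd : gcDeg X = d) (hv : (X : G → ℂ) t = v) :
    (Nat.card G : ℂ) * classInner (X : G → ℂ) (fun x => (invPairs x : ℂ)) =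
      ((centralizer ({t} : Set G)).index : ℂ) ^ 2 * (v ^ 2 / d) := by
  have := invPairs_formula hc hX
  have d0 : (d : ℂ) ≠ 0 := Int.cast_ne_zero.2 (hd ▸ gcDeg_ne_zero hX)
  rw [ca_count ht hc, hd, hv] at this
  rw [card_mul_classInner, mul_div_assoc', eq_div_iff d0, ← this, mul_comm]
  simp [mul_comm]

namespace LD
variable {w : G} {m : ℕ} (h : LD w m)
include h

theorem w2 : w ^ 2 ^ 1 = 1 := by rw [pow_one, ← h.ord, pow_orderOf_eq_one]

theorem rel {x : G} : PRel 2 w x ↔ Even (orderOf x) := ⟨fun e => even_iff_two_dvd.2 (by_contra fun e' =>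
  pRel_one_iff'.1 (e.trans (pRel_one_iff'.2 e')) (h.ord ▸ dvd_rfl)), h.sec x⟩

theorem col (x : G) : pb0 2 (clsFun w) x = if Even (orderOf x) then 4 else 0 := by
  classical
  rw [pb0_clsFun_eq_ite_of_npc h.w2 h.npc, h.idx]
  simp only [h.rel, Nat.cast_ofNat]

theorem val {θ : G → ℂ} (hθ : IsClassFunction G θ) {c : ℂ} (hc : ∀ x, Even (orderOf x) → θ x = c) :
    pb0 2 θ w = c := by
  rw [pb0_congr_section hθ (isClassFunction_one.smul c) fun y hy => by simp [hc y (h.rel.1 hy)], ca_smul, ca_one]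
  simp

theorem gen : IsGeneralizedCharacter G (pb0 2 (clsFun w)) := by
  classical
  apply isGen_of_inner_int (isClassFunction_pb0 (isClassFunction_clsFun w))
  intro χ hχ
  rw [classInner_pb0 (isClassFunction_clsFun w) hχ, classInner_clsFun w hχ.isClassFunction]
  obtain ⟨n, hn⟩ := hχ.isCharacter.exists_int_of_sq (t := w) (by simpa using h.w2)
  split_ifs
  · exact ⟨n, by simp [hn]⟩
  · exact ⟨0, by simp⟩

theorem const {X : genChars G} (hX : ip X X = 1) (h1 : pb0 2 (X : G → ℂ) w = 1) :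
    pb0 2 (X : G → ℂ) = X ∧ ∀ x, Even (orderOf x) → (X : G → ℂ) x = 1 := by
  have h2 : pb0 2 (X : G → ℂ) = X := (CD.pb0_or hX).resolve_right fun e => by simp [e] at h1
  refine ⟨h2, fun x hx => ?_⟩
  rw [← h1, h2]
  obtain ⟨χ, ε, a1, a2, -, a4⟩ := ca_b0 hX h2
  obtain ⟨z, z1, z2, z3⟩ := (h.sec x hx).exists_conj h.w2
  rw [(gc_class X).eq_of_isConj z3, a4, Pi.smul_apply, Pi.smul_apply, a2.apply_mul_of_mem_normal (w := z) a1 h.w2
    (pResidual 2 _) (hasNormalPComplement_iff_not_dvd.1 h.npc) ⟨⟨z, mem_centralizer_singleton_iff.2 z2.symm.eq⟩,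
      mem_pResidual_two_of_odd (by rwa [← Subgroup.orderOf_coe]), rfl⟩]

theorem block {S : genChars G} (s1 : ip S S = 1) (s2 : ip S (gcOne G) = 0)
    (s3 : ∀ x, Even (orderOf x) → (S : G → ℂ) x = 1) {Q k : ℤ} (hQ : gcDeg S = Q) (hk : Q + 1 = 2 * k)
    (hm : 4 * (m : ℤ) ^ 2 = (Q - 1) ^ 2) (hn : ((centralizer ({w} : Set G)).index : ℤ) = Q * k) (k0 : k ≠ 0) :
    ∃ Y1 Y2 : genChars G, ip Y1 Y1 = 1 ∧ ip Y2 Y2 = 1 ∧ ip Y1 Y2 = 0 ∧ ip (gcOne G) Y1 = 0 ∧ ip (gcOne G) Y2 = 0 ∧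
      ip S Y1 = 0 ∧ ip S Y2 = 0 ∧ (∀ x, Even (orderOf x) → (Y1 : G → ℂ) x = 1) ∧
      (∀ x, Even (orderOf x) → (Y2 : G → ℂ) x = 1) ∧ gcDeg Y1 = -k ∧ gcDeg Y2 = -k ∧ pb0 2 (S : G → ℂ) = S ∧
      pb0 2 (Y1 : G → ℂ) = Y1 ∧ pb0 2 (Y2 : G → ℂ) = Y2 ∧
      pb0 2 (clsFun (1 : G)) = (1 - S : G → ℂ) - (k : ℂ) • (Y1 - S : G → ℂ) - (k : ℂ) • (Y2 - S : G → ℂ) := by
  classical
  obtain ⟨Θ, hΘ⟩ : ∃ Θ : genChars G, (Θ : G → ℂ) = pb0 2 (clsFun w) := ⟨⟨_, h.gen⟩, rfl⟩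
  have a0 : ∀ X : genChars G, (ip X Θ : ℂ) = pb0 2 (X : G → ℂ) w := fun X => by
    rw [ip_spec, hΘ, classInner_pb0_clsFun (gc_class X)]
  have a1 : ip Θ Θ = 4 := by exact_mod_cast (a0 Θ).trans (h.val (gc_class Θ) (c := 4) fun x hx => by
    rw [hΘ, h.col, if_pos hx])
  have a2 : ip (gcOne G) Θ = 1 := by exact_mod_cast (a0 _).trans (h.val (gc_class _) (c := 1) fun x hx => rfl)
  have a3 : ip S Θ = 1 := by exact_mod_cast (a0 _).trans (h.val (gc_class _) s3)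
  have o1 := ip_one_one (G := G)
  obtain ⟨Y1, Y2, y1, y2, y3, e⟩ := exists_two_of_ip_eq_two (a := Θ - gcOne G - S) (by
    simp only [map_sub, AddMonoidHom.sub_apply, a1, a2, a3, s1, s2, o1, ca_sw a2, ca_sw a3, ca_sw s2]; rfl)
  obtain ⟨b1, b2⟩ := ca_orth y1 y2 y3 o1 (by
    rw [← map_add, ← e]; simp only [map_sub, a2, o1, ca_sw s2]; rfl)
  obtain ⟨b3, b4⟩ := ca_orth y1 y2 y3 s1 (by rw [← map_add, ← e]; simp only [map_sub, a3, s1, s2]; rfl)
  have e' : Θ = gcOne G + S + Y1 + Y2 := by rw [add_assoc, ← e]; abel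
  obtain ⟨c1, c2⟩ := h.const y1 (by
    rw [← a0, e']; simp only [map_add, ca_sw b1, ca_sw b3, y1, y3]; simp)
  obtain ⟨c3, c4⟩ := h.const y2 (by
    rw [← a0, e']; simp only [map_add, ca_sw b2, ca_sw b4, y2, ca_sw y3]; simp)
  obtain ⟨c5, -⟩ := h.const s1 (by rw [← a0, a3]; simp)
  have sp := fun φ hφ => ca_span (φ := φ) ![gcOne G, S, Y1, Y2] (fun i j => by
    fin_cases i <;> fin_cases j <;>
      simp [o1, s1, s2, y1, y2, y3, b1, b2, b3, b4, ca_sw s2, ca_sw b1, ca_sw b2, ca_sw b3, ca_sw b4, ca_sw y3]) h.odd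
    (by rw [← hΘ, e', Fin.sum_univ_four]; simp) hφ
  have ew : Even (orderOf w) := h.ord ▸ even_two
  have d1 : 1 + Q + gcDeg Y1 + gcDeg Y2 = 0 := by
    have := gcDeg_spec Θ
    rw [hΘ, h.col, if_neg (by simp), e', gcDeg_add, gcDeg_add, gcDeg_add, gcDeg_one, hQ] at this
    exact_mod_cast this.symm
  have d2 : gcDeg Y1 = -k := by
    have f := congrFun (sp _ isClassFunction_invPairs) w
    rw [h.val isClassFunction_invPairs (c := m) fun x hx => by rw [h.pairs x hx], Fin.sum_univ_four] at f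
    simp only [Matrix.cons_val, Pi.add_apply, Pi.smul_apply, smul_eq_mul, s3 w ew, c2 w ew, c4 w ew, mul_one] at f
    have f1 := ca_pairs h.ord h.one o1 gcDeg_one (v := 1) (by simp [gcOne])
    have f2 := ca_pairs h.ord h.one s1 hQ (v := 1) (by simp [s3 w ew])
    have f3 := ca_pairs h.ord h.one y1 rfl (v := 1) (by simp [c2 w ew])
    have f4 := ca_pairs h.ord h.one y2 rfl (v := 1) (by simp [c4 w ew])
    replace f := congrArg conj f
    simp only [map_add, map_mul, classInner_conj_symm, map_natCast, gcOne, Pi.one_apply, map_one, mul_one] at f f1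
    have n1 : (Nat.card G : ℂ) = Q * k * (2 * m) := by
      rw [← (centralizer ({w} : Set G)).index_mul_card, h.card]; exact_mod_cast congrArg (· * (2 * (m : ℤ))) hn
    have n2 : ((centralizer ({w} : Set G)).index : ℂ) = Q * k := by exact_mod_cast hn
    have n3 : (gcDeg Y1 : ℂ) ≠ 0 := Int.cast_ne_zero.2 (gcDeg_ne_zero y1)
    have n4 : (gcDeg Y2 : ℂ) ≠ 0 := Int.cast_ne_zero.2 (gcDeg_ne_zero y2)
    have n5 : (Q : ℂ) ≠ 0 := Int.cast_ne_zero.2 (hQ ▸ gcDeg_ne_zero s1)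
    have n6 : (k : ℂ) ≠ 0 := Int.cast_ne_zero.2 k0
    have n7 : (Q : ℂ) * k * (2 * m) * m = (Q * k) ^ 2 * (1 + 1 / Q + 1 / gcDeg Y1 + 1 / gcDeg Y2) := by
      rw [← n1, f, ← n2]; push_cast at f1 f2 f3 f4; linear_combination f1 + f2 + f3 + f4
    field_simp at n7
    have n8 : 2 * (m : ℤ) ^ 2 * gcDeg Y1 * gcDeg Y2 =
      k * ((Q + 1) * gcDeg Y1 * gcDeg Y2 + Q * gcDeg Y1 + Q * gcDeg Y2) := by
      apply Int.cast_injective (α := ℂ); push_cast; linear_combination n7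
    have n9 : Q * (gcDeg Y1 + k) ^ 2 = 0 := by
      obtain rfl : Q = 2 * k - 1 := by omega
      have : gcDeg Y2 = -2 * k - gcDeg Y1 := by omega
      rw [this] at n8
      have : 4 * ((2 * k - 1) * (gcDeg Y1 + k) ^ 2) = 0 := by
        linear_combination 2 * n8 - gcDeg Y1 * (-2 * k - gcDeg Y1) * hm
      omega
    have := (mul_eq_zero.1 n9).resolve_left (by omega)
    have := pow_eq_zero_iff two_ne_zero |>.1 this
    omega
  have d3 : gcDeg Y2 = -k := by omega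
  refine ⟨Y1, Y2, y1, y2, y3, b1, b2, b3, b4, c2, c4, d2, d3, c5, c1, c3, ?_⟩
  rw [sp _ (isClassFunction_clsFun 1), Fin.sum_univ_four]
  simp only [Matrix.cons_val, classInner_clsFun _ (gc_class _), gcDeg_spec, gcDeg_one, hQ, d2, d3, map_intCast]
  have : (Q : ℂ) = 2 * k - 1 := by exact_mod_cast (by omega : Q = 2 * k - 1)
  ext x
  simp [this, gcOne]; ring

end LD

end Cfsg.Lib.JT
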