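import Cfsg.Agent.Lib.JT.Arith

/-! Arithmetic of the degree equations of the principal 2-block of a group of Ree type. -/

set_option autoImplicit false

namespace Cfsg.Lib.JT

theorem fa_three {p n : ℕ} (hp : p.Prime) {D E : ℤ} (hE : E ≠ 0) (h : 3 * D ^ 2 = p ^ n * E ^ 2) : p = 3 := by
  by_contra h3
  haveI : Fact (Nat.Prime 3) := ⟨Nat.prime_three⟩
  have hp0 : (p : ℤ) ^ n ≠ 0 := pow_ne_zero _ (by exact_mod_cast hp.ne_zero)
  have hD : D ≠ 0 := fun e => mul_ne_zero hp0 (pow_ne_zero 2 hE) (by rw [← h, e]; ring)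
  have h1 : 3 * D.natAbs ^ 2 = p ^ n * E.natAbs ^ 2 := by
    have := congrArg Int.natAbs h
    simpa [Int.natAbs_mul, Int.natAbs_pow] using this
  have hD' : D.natAbs ≠ 0 := Int.natAbs_ne_zero.2 hD
  have hE' : E.natAbs ≠ 0 := Int.natAbs_ne_zero.2 hE
  have h2 := congrArg (padicValNat 3) h1
  have h4 : padicValNat 3 (p ^ n) = 0 := padicValNat.eq_zero_of_not_dvd fun hh =>
    h3 ((Nat.prime_dvd_prime_iff_eq Nat.prime_three hp).1 (Nat.prime_three.dvd_of_dvd_pow hh)).symm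
  rw [padicValNat.mul (by norm_num) (pow_ne_zero _ hD'), padicValNat.mul (pow_ne_zero _ hp.ne_zero) (pow_ne_zero _ hE'),
    h4, padicValNat.pow, padicValNat.pow, padicValNat_self] at h2
  omega

/-- `a = Q³`, case (i) -/
theorem fa_A1 {Q k A B C1 C2 : ℤ} (hQ : Q ≠ 0) (h1 : Q - 1 ≠ 0) (hk0 : k ≠ 0) (hk : Q + 1 = 2 * k)
    (hM : Q ^ 2 + Q + 1 ≠ 0)
    (hAB : A + B = Q ^ 3 - 1) (hC : C1 + C2 = Q ^ 3 - A)
    (e1 : (Q ^ 2 + Q + 1) * (Q ^ 2 * B + A) = (Q - 1) * (A * B))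
    (e2 : Q ^ 2 * (Q ^ 2 + Q + 1) * (-(A * C1 * C2) + Q ^ 3 * C1 * C2 + Q * k ^ 2 * A * (C1 + C2)) =
      -4 * k * Q * (Q + k) * (Q * A * C1 * C2)) :
    3 * (C1 - C2) ^ 2 = -Q * (2 * k * (Q - 1)) ^ 2 := by
  have hA : A = Q ^ 3 - 1 - B := by linarith
  have hB : (B + (Q ^ 2 + Q + 1)) ^ 2 = 0 := mul_left_cancel₀ h1 (by rw [hA] at e1; linear_combination e1)
  have hB' : B = -(Q ^ 2 + Q + 1) := by have := pow_eq_zero_iff two_ne_zero |>.1 hB; linarith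
  have hA' : A = Q * (Q ^ 2 + Q + 1) := by rw [hA, hB']; ring
  have hC' : C1 + C2 = -2 * k * Q := by rw [hC, hA']; linear_combination (-Q) * hk
  have hq : Q = 2 * k - 1 := by linarith
  have h3 : 3 * (C1 * C2) = Q * (Q ^ 2 + Q + 1) * k ^ 2 := by
    apply mul_left_cancel₀ (mul_ne_zero (mul_ne_zero (pow_ne_zero 4 hQ) hM) (mul_ne_zero two_ne_zero hk0))
    rw [hC', hA'] at e2
    linear_combination e2 + (Q ^ 3 * (Q ^ 2 + Q + 1) * C1 * C2 * (2 * k + 1)) * hk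
  have : (C1 - C2) ^ 2 = (C1 + C2) ^ 2 - 4 * (C1 * C2) := by ring
  rw [this, hC']
  linear_combination (-4) * h3

/-- `a = Q³`, case (ii) -/
theorem fa_A2 {p : ℕ} (hp : p.Prime) {Q k C1 C2 : ℤ} (hpQ : ∀ x : ℤ, ¬ (p : ℤ) ∣ x → IsCoprime x Q) (pQ : (p : ℤ) ∣ Q)
    (big : 11 ≤ Q ∨ Q ≤ -11) (hk : Q + 1 = 2 * k) (odd : Q % 2 = 1) (c1 : C1 ≠ 0) (c2 : C2 ≠ 0)
    (hC : C1 + C2 = k * (Q ^ 2 - Q + 1))
    (e : (Q ^ 2 + Q + 1) * k * (4 * C1 + C2) = -5 * (C1 * C2))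
    (d1 : C1 ∣ Q ^ 2 * (Q ^ 2 + Q + 1) * k) (d2 : C2 ∣ 2 * (Q ^ 2 * (Q ^ 2 + Q + 1)) * k) : False := by
  have pp : Prime (p : ℤ) := Nat.prime_iff_prime_int.1 hp
  have n1 : ¬ (p : ℤ) ∣ 1 := pp.not_dvd_one
  have nk : ¬ (p : ℤ) ∣ k := fun h => n1 (by
    have : (1 : ℤ) = 2 * k - Q := by linarith
    rw [this]; exact dvd_sub (h.mul_left 2) pQ)
  have nM : ¬ (p : ℤ) ∣ Q ^ 2 + Q + 1 := fun h => n1 (by
    have : (1 : ℤ) = Q ^ 2 + Q + 1 - Q * (Q + 1) := by ring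
    rw [this]; exact dvd_sub h (pQ.mul_right _))
  have nM' : ¬ (p : ℤ) ∣ Q ^ 2 - Q + 1 := fun h => n1 (by
    have : (1 : ℤ) = Q ^ 2 - Q + 1 - Q * (Q - 1) := by ring
    rw [this]; exact dvd_sub h (pQ.mul_right _))
  have n2 : ¬ (p : ℤ) ∣ 2 := fun h => n1 (by
    obtain ⟨j, hj⟩ : ∃ j, Q = 2 * j + 1 := ⟨Q / 2, by omega⟩
    have : (1 : ℤ) = Q - 2 * j := by linarith
    rw [this]; exact dvd_sub pQ (h.mul_right _))
  have nS : ¬ (p : ℤ) ∣ C1 + C2 := by rw [hC]; exact fun h => (pp.dvd_or_dvd h).elim nk nM'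
  have key : (p : ℤ) ∣ C1 * C2 → (p : ℤ) ∣ 4 * C1 + C2 := fun h => by
    have : (p : ℤ) ∣ (Q ^ 2 + Q + 1) * k * (4 * C1 + C2) := e ▸ h.mul_left _
    exact (pp.dvd_or_dvd this).resolve_left fun h => (pp.dvd_or_dvd h).elim nM nk
  have p1 : ¬ (p : ℤ) ∣ C1 := fun h =>
    nS (dvd_add h ((dvd_add_right (h.mul_left 4)).1 (key (h.mul_right _))))
  have p2 : ¬ (p : ℤ) ∣ C2 := fun h => by
    have := (dvd_add_left h).1 (key (h.mul_left _))
    rw [show 4 * C1 = 2 * (2 * C1) by ring] at this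
    exact p1 ((pp.dvd_or_dvd ((pp.dvd_or_dvd this).resolve_left n2)).resolve_left n2)
  obtain ⟨i, hi⟩ : C1 ∣ (Q ^ 2 + Q + 1) * k :=
    ((hpQ _ p1).pow_right (n := 2)).dvd_of_dvd_mul_left (by rwa [← mul_assoc])
  obtain ⟨j, hj⟩ : C2 ∣ 2 * ((Q ^ 2 + Q + 1) * k) :=
    ((hpQ _ p2).pow_right (n := 2)).dvd_of_dvd_mul_left (by
      rw [show Q ^ 2 * (2 * ((Q ^ 2 + Q + 1) * k)) = 2 * (Q ^ 2 * (Q ^ 2 + Q + 1)) * k by ring]; exact d2)
  have k0 : k ≠ 0 := by rintro rfl; rcases big with h | h <;> linarith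
  have hM : 0 < Q ^ 2 + Q + 1 := by nlinarith [sq_nonneg (2 * Q + 1)]
  have hij : i = -5 - 2 * j := mul_left_cancel₀ (mul_ne_zero c1 c2) (by
    linear_combination e - C2 * hi - 2 * C1 * hj)
  have h1 : (Q ^ 2 + Q + 1) * (3 * j + 10) = (Q ^ 2 - Q + 1) * (j * (2 * j + 5)) := by
    apply mul_left_cancel₀ k0
    have : i * j * (C1 + C2) = (Q ^ 2 + Q + 1) * k * (j + 2 * i) := by linear_combination -j * hi - i * hj
    rw [hC, hij] at this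
    linear_combination this
  have cop : IsCoprime (Q ^ 2 - Q + 1) (Q ^ 2 + Q + 1) := by
    have a1 : IsCoprime (Q ^ 2 - Q + 1) Q := ⟨1, 1 - Q, by ring⟩
    have a2 : IsCoprime (Q ^ 2 - Q + 1) 2 := ⟨1, -((2 * k - 1) * (k - 1)), by
      have : Q = 2 * k - 1 := by linarith
      rw [this]; ring⟩
    have := (a1.mul_right a2).add_mul_left_right 1
    rwa [show Q * 2 + (Q ^ 2 - Q + 1) * 1 = Q ^ 2 + Q + 1 by ring] at this
  obtain ⟨m, hm⟩ : Q ^ 2 - Q + 1 ∣ 3 * j + 10 := cop.dvd_of_dvd_mul_left ⟨_, h1⟩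
  have hM' : 111 ≤ Q ^ 2 - Q + 1 := by rcases big with h | h <;> nlinarith
  have hle : Q ^ 2 + Q + 1 ≤ 2 * (Q ^ 2 - Q + 1) := by rcases big with h | h <;> nlinarith
  generalize Q ^ 2 - Q + 1 = N at *
  generalize Q ^ 2 + Q + 1 = M at *
  have h2 : M * m = j * (2 * j + 5) := mul_left_cancel₀ (show N ≠ 0 by omega) (by rw [← h1, hm]; ring)
  have h3 : 2 * (N * m) ^ 2 + 50 = (25 * N + 9 * M) * m := by
    have : 3 * j = N * m - 10 := by linarith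
    have h4 : 9 * (j * (2 * j + 5)) = (3 * j) * (2 * (3 * j) + 15) := by ring
    rw [this, ← h2] at h4
    linear_combination -h4
  rcases le_or_gt m 0 with h | h
  · nlinarith [sq_nonneg (N * m), mul_nonneg (show 0 ≤ 25 * N + 9 * M by omega) (show 0 ≤ -m by omega)]
  · have h5 : N ≤ N * m := by nlinarith
    have h6 : (25 * N + 9 * M) * m ≤ 43 * (N * m) := by nlinarith
    nlinarith

/-- `a = Q² + Q - 1`, case (ii) -/
theorem fa_B2 {Q k C1 C2 : ℤ} (big : 11 ≤ Q ∨ Q ≤ -11) (hk : Q + 1 = 2 * k) (h8 : Q % 8 = 5)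
    (c1 : C1 ≠ 0) (c2 : C2 ≠ 0) (hC : C1 + C2 = k * Q)
    (e : (Q + 2) * (Q ^ 2 + Q - 1) * k * (4 * C1 + C2) = (Q ^ 2 - 3 * Q - 3) * (C1 * C2)) : False := by
  have k0 : k ≠ 0 := by omega
  have hq : Q = 2 * k - 1 := by linarith
  rcases big with h | h
  · have h2 : C2 = k * Q - C1 := by linarith
    have h3 : ((Q ^ 2 - 3 * Q - 3) * C1 + k * (Q ^ 3 + 6 * Q ^ 2 + 3 * Q - 3)) ^ 2 =
        k ^ 2 * ((Q + 1) * (3 * Q - 1) * (Q + 3) * (4 * Q ^ 2 + 3 * Q - 3)) := by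
      rw [h2] at e; linear_combination (Q ^ 2 - 3 * Q - 3) * e
    obtain ⟨y, hy⟩ := (Int.pow_dvd_pow_iff two_ne_zero).1 ⟨_, h3⟩
    have h4 : k * (2 * (3 * Q - 1) * (Q + 3) * (4 * Q ^ 2 + 3 * Q - 3)) = y ^ 2 := by
      apply mul_left_cancel₀ (pow_ne_zero 2 k0)
      rw [hy, hk] at h3
      linear_combination -h3
    obtain ⟨j, hj⟩ : ∃ j, k = 4 * j + 3 := ⟨k / 4, by omega⟩
    have a2 : IsCoprime k 2 := ⟨1, -(2 * j + 1), by rw [hj]; ring⟩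
    have cop : IsCoprime k (2 * (3 * Q - 1) * (Q + 3) * (4 * Q ^ 2 + 3 * Q - 3)) := by
      have := (a2.pow_right (n := 5)).add_mul_left_right (384 * k ^ 3 - 112 * k ^ 2 - 384 * k + 144)
      rwa [show 2 * (3 * Q - 1) * (Q + 3) * (4 * Q ^ 2 + 3 * Q - 3) =
        2 ^ 5 + k * (384 * k ^ 3 - 112 * k ^ 2 - 384 * k + 144) by rw [hq]; ring]
    obtain ⟨x, hx | hx⟩ := Int.sq_of_isCoprime cop h4
    · have : x % 4 = 0 ∨ x % 4 = 1 ∨ x % 4 = 2 ∨ x % 4 = 3 := by omega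
      have h6 : (x ^ 2) % 4 = 3 := by omega
      rcases this with h | h | h | h <;> simp [pow_two, Int.mul_emod, h] at h6
    · nlinarith [sq_nonneg x]
  · have h3 : -(Q + 2) * (Q ^ 2 + Q - 1) * (C2 + 2 * C1) ^ 2 = 2 * (Q + 1) * (3 * Q - 1) * (C1 * C2) := by
      have : (C2 + 2 * C1) ^ 2 = (C1 + C2) * (4 * C1 + C2) - C1 * C2 := by ring
      rw [this, hC]
      linear_combination (-Q) * e
    have a1 : 0 < Q ^ 2 + Q - 1 := by nlinarith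
    have a2 : 0 < -(Q + 2) * (Q ^ 2 + Q - 1) := mul_pos (by linarith) a1
    have a3 : 0 < 2 * (Q + 1) * (3 * Q - 1) := by nlinarith
    have a4 : 2 * (Q + 1) * (3 * Q - 1) < 8 * (-(Q + 2) * (Q ^ 2 + Q - 1)) := by nlinarith
    generalize -(Q + 2) * (Q ^ 2 + Q - 1) = X at *
    generalize 2 * (Q + 1) * (3 * Q - 1) = Y at *
    have a5 : 8 * (C1 * C2) ≤ (C2 + 2 * C1) ^ 2 := by nlinarith [sq_nonneg (C2 - 2 * C1)]
    rcases lt_or_gt_of_ne (mul_ne_zero c1 c2) with h | h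
    · nlinarith [mul_nonneg a2.le (sq_nonneg (C2 + 2 * C1)), mul_pos a3 (neg_pos.2 h)]
    · nlinarith [mul_le_mul_of_nonneg_left a5 a2.le, mul_pos (sub_pos.2 a4) h]

theorem fin_arith {p n : ℕ} (hp : p.Prime) {ε Q k g a A B C1 C2 : ℤ} (hε : ε = 1 ∨ ε = -1) (hQ : Q = ε * p ^ n)
    (h8 : Q % 8 = 5) (h5 : 5 < p ^ n) (hk : Q + 1 = 2 * k)
    (hag : (a = Q ^ 3 ∧ g = Q ^ 2 * (Q ^ 2 + Q + 1)) ∨ (a = Q ^ 2 + Q - 1 ∧ g = Q * (Q + 2) * (Q ^ 2 + Q - 1)))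
    (hA : A ≠ 0) (hB : B ≠ 0) (c1 : C1 ≠ 0) (c2 : C2 ≠ 0) (hAB : A + B = a - 1) (hC : C1 + C2 = a - A)
    (h : ((g : ℚ) * (1 - Q ^ 2 / a + Q ^ 2 / A + 1 / B) = Q * (Q + 1) ^ 2 * (Q - 1) ∧
        (g : ℚ) * (-Q ^ 2 / a + Q ^ 2 / A + k ^ 2 / C1 + k ^ 2 / C2) = -4 * k * Q * (Q + k)) ∨
      ((g : ℚ) * (1 - Q ^ 2 / a + (1 - k) ^ 2 * (1 / A + 1 / B)) = Q * (Q + 1) ^ 2 * (Q - 1) ∧
        (g : ℚ) * (-Q ^ 2 / a + (1 - k) ^ 2 / A + k ^ 2 / C1 + 4 * k ^ 2 / C2) = -4 * k * Q * (Q + k) ∧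
        C1 ∣ g * k ∧ C2 ∣ 2 * g * k)) :
    p = 3 ∧ ε = -1 ∧ g = Q ^ 2 * (Q ^ 2 + Q + 1) := by
  have h5' : (5 : ℤ) < (p : ℤ) ^ n := by exact_mod_cast h5
  have big : 11 ≤ Q ∨ Q ≤ -11 := by rcases hε with rfl | rfl <;> omega
  have Q0 : Q ≠ 0 := by omega
  have Q1 : Q - 1 ≠ 0 := by omega
  have Q2 : Q + 2 ≠ 0 := by omega
  have k0 : k ≠ 0 := by omega
  have hM : Q ^ 2 + Q + 1 ≠ 0 := by nlinarith [sq_nonneg (2 * Q + 1)]
  have ha : Q ^ 2 + Q - 1 ≠ 0 := by rcases big with h | h <;> nlinarith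
  have hq : Q = 2 * k - 1 := by linarith
  have Q0' : (Q : ℚ) ≠ 0 := by exact_mod_cast Q0
  have hA' : (A : ℚ) ≠ 0 := by exact_mod_cast hA
  have hB' : (B : ℚ) ≠ 0 := by exact_mod_cast hB
  have c1' : (C1 : ℚ) ≠ 0 := by exact_mod_cast c1
  have c2' : (C2 : ℚ) ≠ 0 := by exact_mod_cast c2
  have a0 : a ≠ 0 := by
    rcases hag with ⟨rfl, -⟩ | ⟨rfl, -⟩
    exacts [pow_ne_zero _ Q0, ha]
  have a0' : (a : ℚ) ≠ 0 := by exact_mod_cast a0
  have two : (2 : ℤ) ≠ 0 := two_ne_zero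
  rcases h with ⟨e1, e2⟩ | ⟨e1, e2, d1, d2⟩
  · have g1 : g * (a * A * B - Q ^ 2 * A * B + Q ^ 2 * a * B + a * A) = Q * (Q + 1) ^ 2 * (Q - 1) * (a * A * B) := by
      have : (g : ℚ) * (a * A * B - Q ^ 2 * A * B + Q ^ 2 * a * B + a * A) =
          Q * (Q + 1) ^ 2 * (Q - 1) * (a * A * B) := by rw [← e1]; field_simp
      exact_mod_cast this
    have g2 : g * (-Q ^ 2 * A * C1 * C2 + Q ^ 2 * a * C1 * C2 + k ^ 2 * a * A * (C1 + C2)) =
        -4 * k * Q * (Q + k) * (a * A * C1 * C2) := by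
      have : (g : ℚ) * (-Q ^ 2 * A * C1 * C2 + Q ^ 2 * a * C1 * C2 + k ^ 2 * a * A * (C1 + C2)) =
          -4 * k * Q * (Q + k) * (a * A * C1 * C2) := by rw [← e2]; field_simp; ring
      exact_mod_cast this
    clear e1 e2
    rcases hag with ⟨rfl, rfl⟩ | ⟨rfl, rfl⟩
    · have f1 : (Q ^ 2 + Q + 1) * (Q ^ 2 * B + A) = (Q - 1) * (A * B) :=
        mul_left_cancel₀ (pow_ne_zero 5 Q0) (by linear_combination g1)
      have f3 := fa_A1 Q0 Q1 k0 hk hM hAB hC f1 (mul_left_cancel₀ (pow_ne_zero 2 Q0) (by linear_combination g2))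
      have E0 : 2 * k * (Q - 1) ≠ 0 := mul_ne_zero (mul_ne_zero two k0) Q1
      rcases hε with rfl | rfl
      · exfalso
        have := mul_pos (show 0 < Q by omega) (pow_pos (abs_pos.2 E0) 2)
        rw [sq_abs] at this
        nlinarith [sq_nonneg (C1 - C2)]
      · exact ⟨fa_three hp (n := n) E0 (by rw [f3]; congr 1; linarith), rfl, rfl⟩
    · exfalso
      have f1 : (Q + 2) * (Q ^ 2 * B + A) = (Q - 1) * (A * B) :=
        mul_left_cancel₀ (mul_ne_zero Q0 (pow_ne_zero 2 ha)) (by linear_combination g1)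
      have hA2 : A = Q ^ 2 + Q - 2 - B := by linarith
      have hB2 : (B + (Q + 2)) ^ 2 = 0 := mul_left_cancel₀ Q1 (by rw [hA2] at f1; linear_combination f1)
      have hB3 : B = -(Q + 2) := by have := pow_eq_zero_iff two_ne_zero |>.1 hB2; linarith
      have hA3 : A = Q * (Q + 2) := by rw [hA2, hB3]; ring
      have hC' : C1 + C2 = -2 * k := by rw [hC, hA3]; linarith
      have f2 : (2 * Q + 1) * (C1 * C2) = (Q + 2) * (Q ^ 2 + Q - 1) * k ^ 2 := by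
        apply mul_left_cancel₀ (mul_ne_zero (mul_ne_zero (mul_ne_zero (pow_ne_zero 2 Q0) Q2) ha) (mul_ne_zero two k0))
        rw [hC', hA3] at g2
        rw [hq] at g2 ⊢
        linear_combination g2
      have d : 2 * Q + 1 ∣ 15 := ⟨16 * Q ^ 4 + 72 * Q ^ 3 + 92 * Q ^ 2 + 2 * Q - 49 - 128 * (C1 * C2), by
        linear_combination 128 * f2 - 32 * (Q + 2) * (Q ^ 2 + Q - 1) * (Q + 1 + 2 * k) * hk⟩
      have := Int.le_of_dvd (by norm_num) ((abs_dvd _ _).2 d)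
      rw [abs_le] at this
      rcases big with h | h <;> linarith
  · exfalso
    have g1 : g * (a * A * B - Q ^ 2 * A * B + (1 - k) ^ 2 * a * (A + B)) = Q * (Q + 1) ^ 2 * (Q - 1) * (a * A * B) := by
      have : (g : ℚ) * (a * A * B - Q ^ 2 * A * B + (1 - k) ^ 2 * a * (A + B)) =
          Q * (Q + 1) ^ 2 * (Q - 1) * (a * A * B) := by rw [← e1]; field_simp; ring
      exact_mod_cast this
    have g2 : g * (-Q ^ 2 * A * C1 * C2 + (1 - k) ^ 2 * a * C1 * C2 + k ^ 2 * a * A * (4 * C1 + C2)) =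
        -4 * k * Q * (Q + k) * (a * A * C1 * C2) := by
      have : (g : ℚ) * (-Q ^ 2 * A * C1 * C2 + (1 - k) ^ 2 * a * C1 * C2 + k ^ 2 * a * A * (4 * C1 + C2)) =
          -4 * k * Q * (Q + k) * (a * A * C1 * C2) := by rw [← e2]; field_simp; ring
      exact_mod_cast this
    clear e1 e2
    have k1 : k - 1 ≠ 0 := by omega
    rcases hag with ⟨rfl, rfl⟩ | ⟨rfl, rfl⟩
    · have f0 : 4 * (A * B) = (Q ^ 3 - 1) ^ 2 := by
        apply mul_left_cancel₀ (mul_ne_zero (pow_ne_zero 5 Q0) Q1)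
        rw [hAB] at g1
        have : 4 * (1 - k) ^ 2 = (Q - 1) ^ 2 := by rw [hq]; ring
        linear_combination (-4) * g1 + Q ^ 5 * (Q ^ 2 + Q + 1) * (Q ^ 3 - 1) * this
      have f1 : (A - B) ^ 2 = 0 := by linear_combination (A + B + Q ^ 3 - 1) * hAB - f0
      have f2 : A = (k - 1) * (Q ^ 2 + Q + 1) := by
        have := pow_eq_zero_iff two_ne_zero |>.1 f1
        apply mul_left_cancel₀ two
        linear_combination this + hAB + (Q ^ 2 + Q + 1) * hk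
      have f3 : C1 + C2 = k * (Q ^ 2 - Q + 1) := by rw [hC, f2, hq]; ring
      have f4 : (Q ^ 2 + Q + 1) * k * (4 * C1 + C2) = -5 * (C1 * C2) := by
        apply mul_left_cancel₀ (mul_ne_zero (mul_ne_zero (mul_ne_zero (pow_ne_zero 5 Q0) hM) k0) k1)
        rw [f2] at g2
        rw [hq] at g2 ⊢
        linear_combination g2
      have n0 : n ≠ 0 := by rintro rfl; simp at h5
      have pp : Prime (p : ℤ) := Nat.prime_iff_prime_int.1 hp
      refine fa_A2 hp (fun x hx => ?_) ?_ big hk (by omega) c1 c2 f3 f4 d1 d2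
      · have : IsCoprime x ((p : ℤ) ^ n) := ((pp.irreducible.coprime_iff_not_dvd.2 hx).symm).pow_right
        rcases hε with rfl | rfl
        · rwa [hQ, one_mul]
        · rw [hQ, neg_one_mul]; exact this.neg_right
      · rw [hQ]; exact (dvd_pow_self _ n0).mul_left _
    · have f0 : 4 * (A * B) = (Q ^ 2 + Q - 2) ^ 2 := by
        apply mul_left_cancel₀ (mul_ne_zero (mul_ne_zero Q0 (pow_ne_zero 2 ha)) Q1)
        rw [hAB] at g1
        have : 4 * (1 - k) ^ 2 = (Q - 1) ^ 2 := by rw [hq]; ring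
        linear_combination (-4) * g1 + Q * (Q + 2) * (Q ^ 2 + Q - 1) ^ 2 * (Q ^ 2 + Q - 2) * this
      have f1 : (A - B) ^ 2 = 0 := by linear_combination (A + B + Q ^ 2 + Q - 2) * hAB - f0
      have f2 : A = (k - 1) * (Q + 2) := by
        have := pow_eq_zero_iff two_ne_zero |>.1 f1
        apply mul_left_cancel₀ two
        linear_combination this + hAB + (Q + 2) * hk
      have f3 : C1 + C2 = k * Q := by rw [hC, f2, hq]; ring
      have f4 : (Q + 2) * (Q ^ 2 + Q - 1) * k * (4 * C1 + C2) = (Q ^ 2 - 3 * Q - 3) * (C1 * C2) := by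
        apply mul_left_cancel₀ (mul_ne_zero (mul_ne_zero (mul_ne_zero (mul_ne_zero Q0 Q2) ha) k0) k1)
        rw [f2] at g2
        rw [hq] at g2 ⊢
        linear_combination g2
      exact fa_B2 big hk h8 c1 c2 f3 f4

end Cfsg.Lib.JT
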