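import Cfsg.Agent.Lib.JT.St

/-!
# The action on the projective line of a group normalizing `PSL(2,q)`
-/

set_option autoImplicit false

namespace Cfsg.Lib.JT
open Subgroup Cfsg Cfsg.Lib Cfsg.Lib.FT Cfsg.Lib.GW Cfsg.Lib.GW.L2 Cfsg.Lib.Quad Matrix OnePoint
open scoped MatrixGroups Classical

variable {F : Type*} [Field F] {Y : Type*} [Group Y] {π : SL(2, F) →* Y}

theorem sl_tri {A : SL(2, F)} (h0 : A 1 0 = 0) (h1 : A 0 0 = A 1 1) :
    ∃ c, A = upT c ∨ A = -upT c := by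
  have hd := pg_sl2_det A
  rw [h0, ← h1, mul_zero, sub_zero, mul_self_eq_one_iff] at hd
  rcases hd with e | e
  · exact ⟨A 0 1, Or.inl (Subtype.ext (m_ext (by simpa [coe_upT] using e) (by simp [coe_upT])
      (by simpa [coe_upT] using h0) (by simpa [coe_upT, ← h1] using e)))⟩
  · exact ⟨-A 0 1, Or.inr (Subtype.ext (m_ext (by simpa [coe_upT] using e) (by simp [coe_upT])
      (by simpa [coe_upT] using h0) (by simpa [coe_upT, ← h1] using e)))⟩

theorem comm_upT (h2 : (2 : F) ≠ 0) (hπ : PK π) {c : F} (hc : c ≠ 0) {B : SL(2, F)}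
    (h : π B * π (upT c) = π (upT c) * π B) : B 1 0 = 0 ∧ B 0 0 = B 1 1 := by
  rw [← map_mul, ← map_mul] at h
  have hd := pg_sl2_det B
  rcases hπ.eq_iff.1 h with e | e
  · have e1 := congrFun (congrFun (congrArg Subtype.val e) 0) 0
    have e2 := congrFun (congrFun (congrArg Subtype.val e) 0) 1
    simp [coe_upT, mul_apply, Fin.sum_univ_two, hc] at e1 e2
    exact ⟨e1, mul_left_cancel₀ hc (by linear_combination e2)⟩
  · have e1 := congrFun (congrFun (congrArg Subtype.val e) 0) 0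
    have e2 := congrFun (congrFun (congrArg Subtype.val e) 1) 0
    simp [coe_upT, mul_apply, Fin.sum_univ_two, vecMul, dotProduct] at e1 e2
    have e3 : B 1 0 = 0 := mul_left_cancel₀ h2 (by linear_combination e2)
    have e4 : B 0 0 = 0 := mul_left_cancel₀ h2 (by linear_combination e1 - c * e3)
    simp [e3, e4] at hd

/-- the unipotent subgroup -/
def upS (π : SL(2, F) →* Y) : Subgroup Y := π.range ⊓ C1[π (upT 1)]

theorem mem_upS (h2 : (2 : F) ≠ 0) (hπ : PK π) {c : F} (hc : c ≠ 0) {y : Y} :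
    y ∈ π.range ⊓ C1[π (upT c)] ↔ ∃ d, y = π (upT d) := by
  constructor
  · rintro ⟨⟨B, rfl⟩, h⟩
    obtain ⟨h0, h1⟩ := comm_upT h2 hπ hc (mem_centralizer_singleton_iff.1 h)
    obtain ⟨d, e | e⟩ := sl_tri h0 h1
    · exact ⟨d, by rw [e]⟩
    · exact ⟨d, by rw [e, hπ.neg]⟩
  · rintro ⟨d, rfl⟩
    exact ⟨⟨_, rfl⟩, mem_centralizer_singleton_iff.2 (by
      rw [← map_mul, ← map_mul, upT_mul, upT_mul, add_comm])⟩

theorem upS_eq (h2 : (2 : F) ≠ 0) (hπ : PK π) {c : F} (hc : c ≠ 0) :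
    π.range ⊓ C1[π (upT c)] = upS π := by
  ext y
  rw [upS, mem_upS h2 hπ hc, mem_upS h2 hπ one_ne_zero]

theorem π_upT_ne (h2 : (2 : F) ≠ 0) (hπ : PK π) {c : F} (hc : c ≠ 0) : π (upT c) ≠ 1 := fun h => by
  rcases (hπ _).1 h with e | e
  · exact hc (upT_eq_one_iff.1 e)
  · have := congrFun (congrFun (congrArg Subtype.val e) 0) 0
    simp [coe_upT] at this
    exact h2 (by linear_combination this)

theorem norm_upS (h2 : (2 : F) ≠ 0) (hπ : PK π) (hn : π.range.Normal) {g : Y} {c : F} (hc : c ≠ 0)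
    (h : g * π (upT 1) * g⁻¹ = π (upT c)) : g ∈ N[upS π] := by
  rw [mem_normalizer_iff]
  intro x
  conv_rhs => rw [← upS_eq h2 hπ hc, ← h]
  rw [upS, mem_inf, mem_inf, mem_centralizer_singleton_iff, mem_centralizer_singleton_iff]
  refine and_congr ⟨fun h => hn.conj_mem _ h _, fun h => by simpa [mul_assoc] using hn.conj_mem _ h g⁻¹⟩ ?_
  constructor <;> intro e
  · calc _ = g * (x * π (upT 1)) * g⁻¹ := by group
      _ = _ := by rw [e]; group
  · calc _ = g⁻¹ * (g * x * g⁻¹ * (g * π (upT 1) * g⁻¹)) * g := by group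
      _ = _ := by rw [e]; group

theorem exists_conj_upT {p : ℕ} [Fact p.Prime] [CharP F p] (h2 : (2 : F) ≠ 0) (hπ : PK π)
    {A : SL(2, F)} (hA : π A ^ p = 1) (h0 : A 1 0 = 0) : ∃ c, π A = π (upT c) := by
  have hp : p ≠ 2 := by
    rintro rfl
    exact h2 (by exact_mod_cast CharP.cast_eq_zero F 2)
  have h1 : pgMob A ^ p = 1 := by
    rw [← map_pow] at hA ⊢
    rcases (hπ _).1 hA with e | e <;> rw [e]
    · exact map_one _
    · exact (pgMob_eq_one_iff _).2 (by simp)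
  rw [pgMob_pow_eq_one_iff hp] at h1
  have hd := pg_sl2_det A
  obtain ⟨c, e | e⟩ := sl_tri h0 (sub_eq_zero.1 (pow_eq_zero_iff two_ne_zero |>.1 (by
    linear_combination h1 - 4 * hd - 4 * A 0 1 * h0)))
  · exact ⟨c, by rw [e]⟩
  · exact ⟨c, by rw [e, hπ.neg]⟩

theorem mem_norm_upS (h2 : (2 : F) ≠ 0) (hπ : PK π) (hn : π.range.Normal) {A : SL(2, F)} :
    π A ∈ N[upS π] ↔ A 1 0 = 0 := by
  have hd := pg_sl2_det A
  constructor
  · intro h
    obtain ⟨d, e⟩ := (mem_upS h2 hπ one_ne_zero).1 ((mem_normalizer_iff.1 h _).1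
      ((mem_upS h2 hπ one_ne_zero).2 ⟨1, rfl⟩))
    rw [mul_inv_eq_iff_eq_mul, ← map_mul, ← map_mul] at e
    rcases hπ.eq_iff.1 e with e | e
    · have e1 := congrFun (congrFun (congrArg Subtype.val e) 1) 1
      simpa [coe_upT, mul_apply, Fin.sum_univ_two] using e1
    · have e1 := congrFun (congrFun (congrArg Subtype.val e) 1) 0
      simp [coe_upT, mul_apply, Fin.sum_univ_two, vecMul, dotProduct] at e1
      exact mul_left_cancel₀ h2 (by linear_combination e1)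
  · intro h
    have h0 : A 0 0 ≠ 0 := fun e => by simp [e, h] at hd
    refine norm_upS h2 hπ hn (c := A 0 0 * A 0 0) (mul_ne_zero h0 h0) ?_
    rw [mul_inv_eq_iff_eq_mul, ← map_mul, ← map_mul]
    congr 1
    refine Subtype.ext (m_ext ?_ ?_ ?_ ?_) <;> simp [coe_upT, mul_apply, Fin.sum_univ_two, h]
    linear_combination -A 0 0 * hd - A 0 0 * A 0 1 * h

theorem onePt_ne (z : OnePoint F) : ∃ z', z' ≠ z := by
  cases z with
  | infty => exact ⟨(0 : F), coe_ne_infty _⟩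
  | coe a => exact ⟨∞, infty_ne_coe _⟩

theorem frat_upS [Finite F] (h2 : (2 : F) ≠ 0) (hπ : PK π) (hn : π.range.Normal) (y : Y) :
    ∃ B : SL(2, F), (π B)⁻¹ * y ∈ N[upS π] := by
  obtain ⟨p, hp⟩ := CharP.exists F
  have : Fact p.Prime := ⟨CharP.char_is_prime F p⟩
  have hp2 : p ≠ 2 := by
    rintro rfl
    exact h2 (by exact_mod_cast CharP.cast_eq_zero F 2)
  obtain ⟨A, hA⟩ := hn.conj_mem _ ⟨upT 1, rfl⟩ y
  have h1 : π A ^ p = 1 := by
    rw [hA, conj_pow, ← map_pow, upT_pow]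
    simp [upT_zero]
  have h3 : pgMob A ^ p = 1 := by
    rw [← map_pow] at h1 ⊢
    rcases (hπ _).1 h1 with e | e <;> rw [e]
    · exact map_one _
    · exact (pgMob_eq_one_iff _).2 (by simp)
  rw [pgMob_pow_eq_one_iff hp2] at h3
  have hd := pg_sl2_det A
  obtain ⟨z, hz⟩ : ∃ z, pgMob A z = z := by
    by_cases hc : A 1 0 = 0
    · exact ⟨∞, (pgMob_infty_eq_iff A).2 hc⟩
    · refine ⟨((A 0 0 - A 1 1) / (2 * A 1 0) : F), (pgMob_coe_eq_iff A _).2 ?_⟩
      field_simp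
      linear_combination 4 * hd - h3
  obtain ⟨z', hz'⟩ := onePt_ne z
  obtain ⟨B, hB, -⟩ := pgMob_two z z' hz'.symm
  obtain ⟨c, hc⟩ := exists_conj_upT h2 hπ (A := B⁻¹ * A * B) (p := p) (by
    rw [map_mul, map_mul, map_inv, ← inv_inv (π B), inv_inv (π B)⁻¹, conj_pow, h1]; simp) (by
    rw [← pgMob_infty_eq_iff, map_mul, map_mul, Equiv.Perm.mul_apply, Equiv.Perm.mul_apply, hB, hz,
      ← hB, map_inv]
    simp)
  rw [map_mul, map_mul, map_inv, hA] at hc
  refine ⟨B, norm_upS h2 hπ hn (c := c) ?_ (by rw [← hc]; group)⟩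
  rintro rfl
  rw [upT_zero, map_one] at hc
  exact π_upT_ne h2 hπ one_ne_zero (by
    calc π (upT 1) = (y⁻¹ * π B) * ((π B)⁻¹ * (y * π (upT 1) * y⁻¹) * π B) * (y⁻¹ * π B)⁻¹ := by group
      _ = 1 := by rw [hc]; group)

/-- the action on the projective line extends to any group normalizing `PSL(2,q)`; the
stabilizer of `∞` is the normalizer of the unipotent subgroup -/
theorem exists_ext [Finite F] (h2 : (2 : F) ≠ 0) (hπ : PK π) (hn : π.range.Normal) :
    ∃ ρ : Y →* Equiv.Perm (OnePoint F), (∀ A, ρ (π A) = pgMob A) ∧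
      ∀ y, ρ y ∞ = ∞ ↔ y ∈ N[upS π] := by
  have ex : ∀ z : OnePoint F, ∃ A : SL(2, F), pgMob A ∞ = z := fun z =>
    let ⟨z', hz'⟩ := onePt_ne z
    let ⟨B, hB, _⟩ := pgMob_two z z' hz'.symm
    ⟨B, hB⟩
  choose s hs using ex
  have key : ∀ A B : SL(2, F), ((π A : Y) : Y ⧸ N[upS π]) = (π B : Y) ↔ pgMob A ∞ = pgMob B ∞ := by
    intro A B
    rw [QuotientGroup.eq, ← map_inv, ← map_mul, mem_norm_upS h2 hπ hn, ← pgMob_infty_eq_iff,
      map_mul, map_inv, Equiv.Perm.mul_apply, Equiv.Perm.inv_eq_iff_eq, eq_comm]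
  let β : OnePoint F ≃ Y ⧸ N[upS π] := Equiv.ofBijective (fun z => ((π (s z) : Y) : Y ⧸ N[upS π]))
    ⟨fun z z' e => by rw [← hs z, ← hs z', ← key]; exact e, fun x => by
      obtain ⟨y, rfl⟩ := QuotientGroup.mk_surjective x
      obtain ⟨B, hB⟩ := frat_upS h2 hπ hn y
      exact ⟨pgMob B ∞, ((key _ _).2 (hs _)).trans (QuotientGroup.eq.2 hB)⟩⟩
  have hβ : ∀ A : SL(2, F), β (pgMob A ∞) = (π A : Y) := fun A => (key _ _).2 (hs _)
  have hβ1 : β ∞ = ((1 : Y) : Y ⧸ N[upS π]) := by simpa using hβ 1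
  refine ⟨β.symm.permCongrHom.toMonoidHom.comp (MulAction.toPermHom Y _), fun A => ?_, fun y => ?_⟩
  · ext z
    change β.symm (π A • β z) = _
    rw [Equiv.symm_apply_eq, ← hs z, hβ, ← Equiv.Perm.mul_apply, ← map_mul, hβ, map_mul]
    rfl
  · change β.symm (y • β ∞) = _ ↔ _
    rw [Equiv.symm_apply_eq, hβ1, MulAction.Quotient.smul_mk, eq_comm, QuotientGroup.eq]
    simp

theorem fix_even {X : Type*} [Finite X] [Finite Y] (ρ : Y →* Equiv.Perm X) {y v : Y} {k : ℕ}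
    (hk : Odd k) (hv : y ^ k = v) (h : Nat.card {z // ρ v z = z} ≤ 2) :
    Nat.card {z // ρ y z = z} = Nat.card {z // ρ v z = z} := by
  refine Nat.card_congr (Equiv.subtypeEquivRight fun z => ⟨fun e => ?_, fun e => ?_⟩)
  · rw [← hv, map_pow]; exact Equiv.Perm.pow_apply_eq_self_of_apply_eq_self e k
  · by_contra hne
    have c : ∀ x, ρ v x = x → ρ v (ρ y x) = ρ y x := fun x hx => by
      rw [← Equiv.Perm.mul_apply, ← map_mul, ← hv, ← pow_succ, pow_succ', map_mul,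
        Equiv.Perm.mul_apply, hv, hx]
    have e2 : ρ y (ρ y z) = z := by
      by_contra h3
      have h4 : ρ y (ρ y z) ≠ ρ y z := fun e => hne ((ρ y).injective e)
      have : Fintype {z // ρ v z = z} := Fintype.ofFinite _
      rw [Nat.card_eq_fintype_card] at h
      exact absurd (Fintype.two_lt_card_iff.2 ⟨(⟨z, e⟩ : {z // ρ v z = z}), ⟨_, c _ e⟩,
        ⟨_, c _ (c _ e)⟩, fun e => hne (congrArg Subtype.val e).symm,
        fun e => h3 (congrArg Subtype.val e).symm, fun e => h4 (congrArg Subtype.val e).symm⟩)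
        (by omega)
    obtain ⟨j, rfl⟩ := hk
    have e3 : (ρ y ^ (2 * j)) z = z := by
      rw [pow_mul]
      exact Equiv.Perm.pow_apply_eq_self_of_apply_eq_self (by rw [sq]; exact e2) j
    rw [← hv, map_pow, pow_succ', Equiv.Perm.mul_apply, e3] at e
    exact hne e

/-- The Steinberg character of a group `Y` normalizing `L = π.range ≅ PSL(2,q)`; `Y` need not act
faithfully on `L`. `hv`: the elements of even order whose `2`-part is an involution of `L`. -/
theorem exists_stE [Fintype F] [Fintype Y] (h2 : (2 : F) ≠ 0) (hπ : PK π) (hn : π.range.Normal) :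
    ∃ (ρ : Y →* Equiv.Perm (OnePoint F)) (St : Y → ℂ), (∀ A, ρ (π A) = pgMob A) ∧
      (∀ y, ρ y ∞ = ∞ ↔ y ∈ N[upS π]) ∧ IsIrrCharacter Y St ∧ classInner St 1 = 0 ∧
      (∀ y, St y = (Nat.card {z // ρ y z = z} : ℂ) - 1) ∧ (∀ A, St (π A) = (stFix A : ℂ) - 1) ∧
      ∀ (y : Y) (k : ℕ), Odd k → y ^ k ∈ π.range → orderOf (y ^ k) = 2 →
        St y = if IsSquare (-1 : F) then 1 else -1 := by
  obtain ⟨ρ, h1, h3⟩ := exists_ext h2 hπ hn
  let : MulAction Y (OnePoint F) := MulAction.compHom _ ρ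
  have : Fintype (OnePoint F) := Fintype.ofFinite _
  have h := (Bender.irr_pch_sub_one (G := Y) (X := OnePoint F) (infty_ne_coe (0 : F))
    fun x y x' y' h h' => by
      obtain ⟨A, a1, a2⟩ := pgMob_two x y h
      obtain ⟨B, b1, b2⟩ := pgMob_two x' y' h'
      refine ⟨π (B * A⁻¹), ?_, ?_⟩
      · change ρ (π (B * A⁻¹)) x = x'
        rw [h1, ← a1, ← b1, ← Equiv.Perm.mul_apply, ← map_mul, inv_mul_cancel_right]
      · change ρ (π (B * A⁻¹)) y = y'
        rw [h1, ← a2, ← b2, ← Equiv.Perm.mul_apply, ← map_mul, inv_mul_cancel_right])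
  rw [Bender.pch_eq] at h
  refine ⟨ρ, fun y => (Nat.card {z // ρ y z = z} : ℂ) - 1, h1, h3, h.1, h.2, fun _ => rfl,
    fun A => by simp only [h1, stFix], ?_⟩
  rintro y k hk ⟨T, hT⟩ ho
  have e := stFix_even h2 hπ (A := T) (by rw [hT, ho]; decide)
  have e1 : Nat.card {z // ρ (y ^ k) z = z} = stFix T := by rw [← hT, h1, stFix]
  have e2 := fix_even ρ hk rfl (by
    rw [e1]; by_cases s : IsSquare (-1 : F)
    · rw [e.1 s]
    · rw [e.2 s]; omega)
  simp only [e2, e1]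
  split_ifs with s
  · rw [e.1 s]; norm_num
  · rw [e.2 s]; norm_num

end Cfsg.Lib.JT
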